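import Cfsg.Agent.Lib.Components.Basic
import Cfsg.Agent.Lib.Cores.Basic

/-!
# The generalized Fitting subgroup

Owner: helper19.
* for `O_p`, `F(G)` see `Lib.Cores.Basic`;
* `C_G(F*(G)) ≤ F*(G)`.
-/

namespace Cfsg.Agent.Lib.Components.GenFitting

open Subgroup

universe u

variable {G : Type*} [Group G]

theorem map_generalizedFitting {G' : Type*} [Group G'] (e : G ≃* G') :
    (generalizedFittingSubgroup G).map e.toMonoidHom = generalizedFittingSubgroup G' := by
  unfold generalizedFittingSubgroup
  rw [Subgroup.map_sup, Layer.map_layer e, Cores.map_fittingSubgroup_equiv e]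

instance generalizedFitting_characteristic : (generalizedFittingSubgroup G).Characteristic :=
  Subgroup.characteristic_iff_map_eq.mpr fun e => map_generalizedFitting e

instance generalizedFitting_normal : (generalizedFittingSubgroup G).Normal := inferInstance

theorem layer_le_generalizedFitting : layer G ≤ generalizedFittingSubgroup G := le_sup_left

theorem fitting_le_generalizedFitting : fittingSubgroup G ≤ generalizedFittingSubgroup G := le_sup_right

/-- `C_G(F*(G)) ≤ F*(G)`. -/
theorem centralizer_le [Finite G] :
    Subgroup.centralizer (generalizedFittingSubgroup G : Set G) ≤ generalizedFittingSubgroup G := by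
  set C := Subgroup.centralizer (generalizedFittingSubgroup G : Set G) with hC
  set F := generalizedFittingSubgroup G with hF
  by_contra hne
  obtain ⟨X, ⟨hXsn, hXC, hXF⟩, hmin⟩ := Set.Finite.exists_minimalFor (fun X : Subgroup G => Nat.card X)
    {X : Subgroup G | X.IsSubnormal ∧ X ≤ C ∧ ¬ X ≤ F} (Set.toFinite _)
    ⟨C, Subgroup.Normal.isSubnormal inferInstance, le_rfl, hne⟩
  have hprop : ∀ N : Subgroup X, N.IsSubnormal → N ≠ ⊤ → N ≤ Subgroup.center X := by
    intro N hN hNtop
    have hlt : Nat.card (N.map X.subtype) < Nat.card X := by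
      rw [Subgroup.card_map_of_injective X.subtype_injective]
      exact lt_of_le_of_ne (Subgroup.card_le_card_group N) fun he => hNtop (Subgroup.eq_top_of_card_eq N he)
    have hNF : N.map X.subtype ≤ F := by
      by_contra hNF
      exact not_lt.mpr (hmin (j := N.map X.subtype) ⟨hN.trans' hXsn, (Subgroup.map_subtype_le N).trans hXC, hNF⟩
        hlt.le) hlt
    intro x hx
    refine Subgroup.mem_center_iff.mpr fun y => Subtype.ext ?_
    exact (Subgroup.mem_centralizer_iff.mp (hXC y.2) _ (hNF (Subgroup.mem_map_of_mem _ hx))).symm
  by_cases hperf : _root_.commutator X = ⊤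
  · refine hXF (le_trans (le_sSup (show IsComponent X from ⟨hXsn, ⟨hperf⟩, ?_⟩))
      layer_le_generalizedFitting)
    have hnt : Nontrivial X := by
      rw [Subgroup.nontrivial_iff_ne_bot]
      rintro rfl
      exact hXF bot_le
    have hZtop : Subgroup.center X ≠ ⊤ := fun hz => by
      rw [(_root_.commutator_eq_bot_iff_center_eq_top _).mpr hz] at hperf
      exact bot_ne_top hperf
    have : Nontrivial (X ⧸ Subgroup.center X) := by
      by_contra hn
      rw [not_nontrivial_iff_subsingleton, QuotientGroup.subsingleton_iff] at hn
      exact hZtop hn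
    refine ⟨fun N hN => ?_⟩
    by_cases hN' : N.comap (QuotientGroup.mk' (Subgroup.center X)) = ⊤
    · right
      exact Subgroup.comap_injective (QuotientGroup.mk'_surjective _) (by rw [hN', Subgroup.comap_top])
    · left
      have := hprop _ (hN.comap _).isSubnormal hN'
      rw [eq_bot_iff]
      intro y hy
      obtain ⟨x, rfl⟩ := QuotientGroup.mk'_surjective _ y
      exact (QuotientGroup.eq_one_iff x).mpr (this hy)
  · have hc : _root_.commutator X ≤ Subgroup.center X :=
      hprop _ (Subgroup.Normal.isSubnormal inferInstance) hperf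
    have hq : IsMulCommutative (X ⧸ Subgroup.center X) :=
      Subgroup.Normal.quotient_commutative_iff_commutator_le.mpr hc
    have : Group.IsNilpotent X := Group.of_quotient_center_nilpotent (by
      let _ : CommGroup (X ⧸ Subgroup.center X) :=
        { (inferInstance : Group (X ⧸ Subgroup.center X)) with mul_comm := hq.is_comm.comm }
      exact CommGroup.isNilpotent)
    exact hXF ((Cores.IsSubnormal.le_fittingSubgroup hXsn this).trans fitting_le_generalizedFitting)

theorem ne_bot [Finite G] [Nontrivial G] : generalizedFittingSubgroup G ≠ ⊥ := by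
  intro h
  have h2 := centralizer_le (G := G)
  rw [h] at h2
  have h3 : Subgroup.centralizer ((⊥ : Subgroup G) : Set G) = ⊤ :=
    eq_top_iff.mpr fun x _ => Subgroup.mem_centralizer_iff.mpr fun y hy => by
      obtain rfl := Subgroup.mem_bot.mp hy
      simp
  rw [h3] at h2
  exact top_ne_bot (le_bot_iff.mp h2)

/-- A solvable group has no component. -/
theorem layer_eq_bot_of_isSolvable [Group.IsSolvable G] : layer G = ⊥ := by
  by_contra h
  obtain ⟨K, hK⟩ := Layer.layer_ne_bot_iff.mp h
  exact Component.not_isSolvable hK inferInstance

end Cfsg.Agent.Lib.Components.GenFitting
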