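import Cfsg.Agent.Lib.Components.Basic
import Cfsg.Agent.Lib.Cores.Basic
import Mathlib.GroupTheory.SchurZassenhaus

/-!
# p-components and the p-layer

Owner: helper19.
-/

namespace Cfsg.Agent.Lib.Components.PComponent

open Subgroup

universe u

variable {G : Type*} [Group G] {p : ℕ}

/-- A subnormal subgroup of order prime to `p` lies in `O_{p'}(G)`. -/
theorem subnormal_coprime_le [Finite G] {H : Subgroup G} (hH : H.IsSubnormal)
    (hc : (Nat.card H).Coprime p) : H ≤ pPrimeCore p G := by
  suffices key : ∀ K : Subgroup G, K.IsSubnormal → (pPrimeCore p K).map K.subtype ≤ pPrimeCore p G by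
    refine le_trans ?_ (key H hH)
    have ht : pPrimeCore p H = ⊤ :=
      top_le_iff.mp (Cores.le_pPrimeCore (by rwa [Subgroup.card_top]))
    rw [ht, ← MonoidHom.range_eq_map, Subgroup.range_subtype]
  intro K hK
  induction hK with
  | top =>
    have := Cores.normal_map_subtype (⊤ : Subgroup G) (Cfsg.pPrimeCore p (⊤ : Subgroup G))
    refine Cores.le_pPrimeCore ?_
    rw [Subgroup.card_map_of_injective (Subgroup.subtype_injective _)]
    exact Cores.pPrimeCore_coprime p
  | step H K hle _ hN ih =>
    refine le_trans ?_ ih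
    have := Cores.normal_map_subtype (H.subgroupOf K) (Cfsg.pPrimeCore p (H.subgroupOf K))
    have h1 : ((Cfsg.pPrimeCore p (H.subgroupOf K)).map (H.subgroupOf K).subtype).map K.subtype
        ≤ (Cfsg.pPrimeCore p K).map K.subtype := by
      refine Subgroup.map_mono (Cores.le_pPrimeCore ?_)
      rw [Subgroup.card_map_of_injective (Subgroup.subtype_injective _)]
      exact Cores.pPrimeCore_coprime p
    refine le_trans (le_of_eq ?_) h1
    rw [← Cores.map_pPrimeCore_equiv (Subgroup.subgroupOfEquivOfLe hle), Subgroup.map_map,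
      Subgroup.map_map]
    rfl

/-- A finite perfect group whose central quotient has order prime to `p` has order prime to `p`. -/
theorem perfect_central_coprime [Finite G] [hp : Fact p.Prime] (hG : _root_.commutator G = ⊤)
    (hc : (Subgroup.center G).index.Coprime p) : (Nat.card G).Coprime p := by
  obtain ⟨P⟩ : Nonempty (Sylow p G) := inferInstance
  have hPZ : (P : Subgroup G) ≤ Subgroup.center G := by
    intro x hx
    rw [← QuotientGroup.eq_one_iff, ← orderOf_eq_one_iff]
    obtain ⟨k, hk⟩ := P.isPGroup' ⟨x, hx⟩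
    have hx1 : orderOf (x : G ⧸ Subgroup.center G) ∣ p ^ k := by
      refine orderOf_dvd_of_pow_eq_one ?_
      have hk' : x ^ p ^ k = 1 := congrArg Subtype.val hk
      rw [← QuotientGroup.mk_pow, hk', QuotientGroup.mk_one]
    exact Nat.eq_one_of_dvd_coprimes (Nat.Coprime.pow_right k hc) (orderOf_dvd_natCard _) hx1
  have hPn : (P : Subgroup G).Normal := ⟨fun n hn g => by
    rw [(Subgroup.mem_center_iff.mp (hPZ hn) g), mul_inv_cancel_right]; exact hn⟩
  obtain ⟨C, hC⟩ := Subgroup.exists_right_complement'_of_coprime P.card_coprime_index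
  have hPC : (P : Subgroup G) ⊔ C = ⊤ := hC.sup_eq_top
  have hCn : C.Normal := by
    rw [← Subgroup.normalizer_eq_top_iff, ← top_le_iff, ← hPC]
    refine sup_le (hPZ.trans ?_) Subgroup.le_normalizer
    exact (Subgroup.center_le_centralizer _).trans (Subgroup.centralizer_le_normalizer _)
  have hPab : IsMulCommutative ↥(P : Subgroup G) :=
    Subgroup.le_centralizer_iff_isMulCommutative.mp (hPZ.trans (Subgroup.center_le_centralizer _))
  have hle := Subgroup.Normal.commutator_le_of_self_sup_commutative_eq_top (N := C)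
    (by rw [sup_comm]; exact hPC) hPab
  rw [hG, top_le_iff] at hle
  have hPbot : (P : Subgroup G) = ⊥ := by
    have hd := hC.disjoint
    rw [hle, disjoint_top] at hd
    exact hd
  have hi := P.not_dvd_index
  rw [hPbot, Subgroup.index_bot] at hi
  exact (hp.out.coprime_iff_not_dvd.mpr hi).symm

/-- With `O_{p'}(G) = 1`, the central quotient of a component has order divisible by `p`. -/
theorem component_center_index_not_coprime [Finite G] [Fact p.Prime] (hO : pPrimeCore p G = ⊥)
    {L : Subgroup G} (hL : IsComponent L) : ¬ (Subgroup.center L).index.Coprime p := by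
  intro hc
  have h := subnormal_coprime_le (p := p) hL.1 (perfect_central_coprime hL.2.1.commutator_eq_top hc)
  rw [hO, le_bot_iff] at h
  exact Component.ne_bot hL h


theorem component_image {K : Subgroup G} (hK : IsPComponent p K) :
    IsComponent (K.map (QuotientGroup.mk' (pPrimeCore p G))) := hK.2.1

theorem eq_of_map_eq_of_le {K H : Subgroup G} (hK : IsPComponent p K) (hH : H.IsSubnormal)
    (hle : H ≤ K) (he : H.map (QuotientGroup.mk' (pPrimeCore p G)) =
      K.map (QuotientGroup.mk' (pPrimeCore p G))) : H = K :=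
  hK.2.2 H hH hle he

/-- A `p`-component is perfect. -/
theorem commutator_self {K : Subgroup G} (hK : IsPComponent p K) : ⁅K, K⁆ = K := by
  refine eq_of_map_eq_of_le hK ?_ (Subgroup.commutator_le_self K) ?_
  · rw [← Subgroup.map_subtype_commutator]
    exact (Subgroup.Normal.isSubnormal inferInstance).trans' hK.1
  · rw [Subgroup.map_commutator]
    exact Component.commutator_self hK.2.1

theorem not_le_pPrimeCore {K : Subgroup G} (hK : IsPComponent p K) : ¬ K ≤ pPrimeCore p G := by
  intro h
  refine Component.ne_bot hK.2.1 ?_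
  rw [Subgroup.map_eq_bot_iff, QuotientGroup.ker_mk']
  exact h

theorem map_equiv_quotient {G' : Type*} [Group G'] (e : G ≃* G') :
    (pPrimeCore p G).map (e : G →* G') = pPrimeCore p G' :=
  Cores.map_pPrimeCore_equiv e

theorem map_equiv {G' : Type*} [Group G'] (e : G ≃* G') {K : Subgroup G} (hK : IsPComponent p K) :
    IsPComponent p (K.map e.toMonoidHom) := by
  set e' := QuotientGroup.congr (pPrimeCore p G) (pPrimeCore p G') e (map_equiv_quotient e)
  have hcomm : ∀ H : Subgroup G, (H.map e.toMonoidHom).map (QuotientGroup.mk' (pPrimeCore p G')) =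
      (H.map (QuotientGroup.mk' (pPrimeCore p G))).map e'.toMonoidHom := by
    intro H
    rw [Subgroup.map_map, Subgroup.map_map]
    rfl
  refine ⟨hK.1.map (f := e.toMonoidHom) e.surjective, ?_, fun H hH hle he => ?_⟩
  · rw [hcomm]
    exact Component.map_equiv e' hK.2.1
  · have hH' : (H.comap e.toMonoidHom).IsSubnormal := hH.comap _
    have hHH : (H.comap e.toMonoidHom).map e.toMonoidHom = H :=
      Subgroup.map_comap_eq_self_of_surjective (f := e.toMonoidHom) e.surjective H
    have hle' : H.comap e.toMonoidHom ≤ K := by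
      refine le_trans (Subgroup.comap_mono hle) (le_of_eq ?_)
      exact Subgroup.comap_map_eq_self_of_injective (f := e.toMonoidHom) e.injective K
    rw [← hHH, eq_of_map_eq_of_le hK hH' hle' ?_]
    rw [← hHH, hcomm, hcomm] at he
    exact Subgroup.map_injective e'.injective he

theorem conj {K : Subgroup G} (hK : IsPComponent p K) (g : G) :
    IsPComponent p (K.map (MulAut.conj g).toMonoidHom) :=
  map_equiv (MulAut.conj g) hK

variable [Finite G]

/-- Over each component of `G / O_{p'}(G)` there is a `p`-component. -/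
theorem exists_over {L : Subgroup (G ⧸ pPrimeCore p G)} (hL : IsComponent L) :
    ∃ K : Subgroup G, IsPComponent p K ∧ K.map (QuotientGroup.mk' (pPrimeCore p G)) = L := by
  obtain ⟨K, ⟨hK1, hK2⟩, hmin⟩ := Set.Finite.exists_minimal
    (s := {K : Subgroup G | K.IsSubnormal ∧ K.map (QuotientGroup.mk' (pPrimeCore p G)) = L})
    (Set.toFinite _) ⟨_, hL.1.comap _,
      Subgroup.map_comap_eq_self_of_surjective (QuotientGroup.mk'_surjective _) L⟩
  exact ⟨K, ⟨hK1, hK2 ▸ hL, fun H hH hle he =>
    le_antisymm hle (hmin ⟨hH, he.trans hK2⟩ hle)⟩, hK2⟩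

/-- Key lemma: if `N` is normal in `T`, `K ≤ T`, and `T ≤ N O_{p'}(G)`, then `K ≤ N`. -/
theorem le_of_normal_supplement [Fact p.Prime] {K T N : Subgroup G} (hK : IsPComponent p K)
    (hKT : K ≤ T) (hN : N.IsSubnormal) (hNT : N ≤ T) (hn : (N.subgroupOf T).Normal)
    (hsup : T ≤ N ⊔ pPrimeCore p G) : K ≤ N := by
  have hTN : T ≤ Subgroup.normalizer (N : Set G) :=
    (Subgroup.normal_subgroupOf_iff_le_normalizer hNT).mp hn
  -- the index of `N ∩ K` in `K` is prime to `p`
  have hidx : (N.subgroupOf K).index.Coprime p := by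
    refine Nat.Coprime.of_dvd_left ?_ (Cores.pPrimeCore_coprime (G := G) p)
    have hTeq : N ⊔ (pPrimeCore p G ⊓ T) = T := by
      refine le_antisymm (sup_le hNT inf_le_right) fun t ht => ?_
      obtain ⟨a, ha, b, hb, rfl⟩ := Subgroup.mem_sup_of_normal_right.mp (hsup ht)
      exact Subgroup.mul_mem_sup ha ⟨hb, by simpa using T.mul_mem (T.inv_mem (hNT ha)) ht⟩
    have h1 : N.relIndex K ∣ N.relIndex T := by
      have h2 : (N.subgroupOf T).relIndex (K.subgroupOf T) ∣ (N.subgroupOf T).index :=
        Subgroup.relIndex_dvd_index_of_normal _ _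
      rwa [Subgroup.relIndex_subgroupOf hKT] at h2
    have h3 : N.relIndex T = N.relIndex (pPrimeCore p G ⊓ T) := by
      conv_lhs => rw [← hTeq, sup_comm]
      have hn' : ((N.subgroupOf (pPrimeCore p G ⊓ T ⊔ N))).Normal :=
        Subgroup.normal_subgroupOf_of_le_normalizer
          (sup_le (inf_le_right.trans hTN) Subgroup.le_normalizer)
      have h4 := Subgroup.relIndex_sup_right ((pPrimeCore p G ⊓ T).subgroupOf (pPrimeCore p G ⊓ T ⊔ N))
        (N.subgroupOf (pPrimeCore p G ⊓ T ⊔ N))
      rwa [← Subgroup.subgroupOf_sup le_sup_left le_sup_right, Subgroup.subgroupOf_self,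
        Subgroup.relIndex_top_right, Subgroup.relIndex_subgroupOf le_sup_left] at h4
    rw [h3] at h1
    exact (h1.trans (Subgroup.relIndex_dvd_card _ _)).trans (Subgroup.card_dvd_of_le inf_le_left)
  have hKN : (N.subgroupOf K).Normal := Subgroup.normal_subgroupOf_of_le_normalizer (hKT.trans hTN)
  set L := K.map (QuotientGroup.mk' (pPrimeCore p G)) with hL
  set φ : K →* L := (QuotientGroup.mk' (pPrimeCore p G)).subgroupMap K
  have hφ : Function.Surjective φ := (QuotientGroup.mk' (pPrimeCore p G)).subgroupMap_surjective K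
  rcases Quasisimple.normal_le_center_or_eq_top hK.2.1.2 (hKN.map φ hφ) with hc | ht
  · exfalso
    refine component_center_index_not_coprime (Cores.pPrimeCore_quotient_pPrimeCore p) hK.2.1
      (Nat.Coprime.of_dvd_left ?_ hidx)
    exact (Subgroup.index_dvd_of_le hc).trans (Subgroup.index_map_dvd _ hφ)
  · have he : (N ⊓ K).map (QuotientGroup.mk' (pPrimeCore p G)) = L := by
      refine le_antisymm (Subgroup.map_mono inf_le_right) fun y hy => ?_
      have hy' : (⟨y, hy⟩ : L) ∈ (N.subgroupOf K).map φ := ht ▸ Subgroup.mem_top _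
      obtain ⟨x, hx, hxy⟩ := hy'
      exact ⟨x, ⟨hx, x.2⟩, congrArg Subtype.val hxy⟩
    exact (eq_of_map_eq_of_le hK (hN.inf hK.1) inf_le_right he) ▸ inf_le_left

/-- A `p`-component lies in every subnormal subgroup that covers it modulo `O_{p'}(G)`. -/
theorem le_of_subnormal [Fact p.Prime] {K S : Subgroup G} (hK : IsPComponent p K)
    (hS : S.IsSubnormal) (hKS : K ≤ S ⊔ pPrimeCore p G) : K ≤ S := by
  suffices key : ∀ T : Subgroup G, T.IsSubnormal → K ≤ T ⊔ pPrimeCore p G →
      K ≤ T from key S hS hKS
  intro T hT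
  induction hT with
  | top => exact fun _ => le_top
  | step N T hle hTs hn ih =>
    intro h
    have hKT : K ≤ T := ih (h.trans (sup_le_sup_right hle _))
    -- pass to `N (O ∩ T)`, which contains `K`
    have hT' : K ≤ N ⊔ pPrimeCore p G ⊓ T := by
      intro k hk
      obtain ⟨a, ha, b, hb, rfl⟩ := Subgroup.mem_sup_of_normal_right.mp (h hk)
      exact Subgroup.mul_mem_sup ha ⟨hb, by simpa using T.mul_mem (T.inv_mem (hle ha)) (hKT hk)⟩
    refine le_of_normal_supplement hK hT' (Subgroup.IsSubnormal.step _ _ hle hTs hn) le_sup_left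
      (Subgroup.normal_subgroupOf_of_le_normalizer
        (sup_le Subgroup.le_normalizer (inf_le_right.trans
          ((Subgroup.normal_subgroupOf_iff_le_normalizer hle).mp hn))))
      (sup_le le_sup_left (inf_le_left.trans le_sup_right))

/-- A `p`-component is determined by its image modulo `O_{p'}(G)`. -/
theorem eq_of_map_eq [Fact p.Prime] {K K' : Subgroup G} (hK : IsPComponent p K)
    (hK' : IsPComponent p K')
    (he : K.map (QuotientGroup.mk' (pPrimeCore p G)) = K'.map (QuotientGroup.mk' (pPrimeCore p G))) :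
    K = K' := by
  have h := Subgroup.map_eq_map_iff.mp he
  rw [QuotientGroup.ker_mk'] at h
  exact le_antisymm (le_of_subnormal hK hK'.1 (h ▸ le_sup_left))
    (le_of_subnormal hK' hK.1 (h.symm ▸ le_sup_left))

/-- Distinct `p`-components commute modulo `O_{p'}(G)`. -/
theorem commutator_le [Fact p.Prime] {K K' : Subgroup G} (hK : IsPComponent p K)
    (hK' : IsPComponent p K') (hne : K ≠ K') : ⁅K, K'⁆ ≤ pPrimeCore p G := by
  rcases Component.eq_or_commutator_eq_bot hK.2.1 hK'.2.1 with h | h
  · exact absurd (eq_of_map_eq hK hK' h) hne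
  · rw [← Subgroup.map_commutator, Subgroup.map_eq_bot_iff, QuotientGroup.ker_mk'] at h
    exact h

/-- An element normalising the image of a `p`-component normalises the `p`-component. -/
theorem mem_normalizer [Fact p.Prime] {K : Subgroup G} (hK : IsPComponent p K) {g : G}
    (hg : (QuotientGroup.mk' (pPrimeCore p G)) g ∈
      Subgroup.normalizer (K.map (QuotientGroup.mk' (pPrimeCore p G)) : Set (G ⧸ pPrimeCore p G))) :
    g ∈ Subgroup.normalizer (K : Set G) := by
  rw [Subgroup.mem_normalizer_iff_map_conj_eq]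
  refine eq_of_map_eq (conj hK g) hK ?_
  rw [Subgroup.mem_normalizer_iff_map_conj_eq] at hg
  refine Eq.trans ?_ hg
  rw [Subgroup.map_map, Subgroup.map_map]
  congr 1

/-- Each `p`-component is normalised by `O_{p'}(G)`. -/
theorem pPrimeCore_le_normalizer [Fact p.Prime] {K : Subgroup G} (hK : IsPComponent p K) :
    pPrimeCore p G ≤ Subgroup.normalizer (K : Set G) := by
  intro g hg
  refine mem_normalizer hK ?_
  have h1 : (QuotientGroup.mk' (pPrimeCore p G)) g = 1 := (QuotientGroup.eq_one_iff g).mpr hg
  rw [h1]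
  exact one_mem _

/-- `p`-components normalise one another. -/
theorem le_normalizer [Fact p.Prime] {K K' : Subgroup G} (hK : IsPComponent p K)
    (hK' : IsPComponent p K') : K' ≤ Subgroup.normalizer (K : Set G) := by
  intro g hg
  refine mem_normalizer hK ?_
  exact Layer.layer_le_normalizer hK.2.1 (Layer.component_le_layer hK'.2.1 (Subgroup.mem_map_of_mem _ hg))

omit [Finite G] in
instance pLayer_characteristic : (pLayer p G).Characteristic := by
  refine Subgroup.characteristic_iff_map_le.mpr fun e => ?_
  rw [Subgroup.map_le_iff_le_comap]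
  exact sSup_le fun K hK => Subgroup.map_le_iff_le_comap.mp (le_sSup (map_equiv e hK))

omit [Finite G] in
theorem commutator_pLayer_self : ⁅pLayer p G, pLayer p G⁆ = pLayer p G := by
  refine le_antisymm (Subgroup.commutator_le_self _) (sSup_le fun K hK => ?_)
  rw [← commutator_self hK]
  exact Subgroup.commutator_mono (le_sSup hK) (le_sSup hK)

/-- The image of the `p`-layer is the layer of `G / O_{p'}(G)`. -/
theorem map_pLayer : (pLayer p G).map (QuotientGroup.mk' (pPrimeCore p G)) =
    layer (G ⧸ pPrimeCore p G) := by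
  refine le_antisymm ?_ (sSup_le fun L hL => ?_)
  · rw [Subgroup.map_le_iff_le_comap]
    exact sSup_le fun K hK => Subgroup.map_le_iff_le_comap.mp (le_sSup hK.2.1)
  · obtain ⟨K, hK, rfl⟩ := exists_over hL
    exact Subgroup.map_mono (le_sSup hK)

end Cfsg.Agent.Lib.Components.PComponent
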