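import Cfsg.Prelude.Def_Local
import Mathlib.GroupTheory.Solvable
import Mathlib.GroupTheory.IsSubnormal
import Mathlib.GroupTheory.IsPerfect
import Mathlib.SetTheory.Cardinal.Finite

/-!
# Quasisimple groups, components, the layer

Owner: helper19.
* `Cfsg.Agent.Lib.Components.Quasisimple.*`: facts about a quasisimple group.
* `Cfsg.Agent.Lib.Components.Component.*`: components, in particular
  `le_or_commutator_eq_bot` (a component is contained in, or centralizes, each subnormal subgroup) and
  `eq_or_commutator_eq_bot` (distinct components commute).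
* `Cfsg.Agent.Lib.Components.Layer.*`: the layer.
-/

namespace Cfsg.Agent.Lib.Components

open Subgroup

universe u

section Commutators

variable {G : Type*} [Group G]

/-- Three subgroups lemma, in the form `[A,B,C] = [B,C,A] = 1 → [C,A,B] = 1`. -/
theorem three_subgroups {A B C : Subgroup G} (h1 : ⁅⁅A, B⁆, C⁆ = ⊥) (h2 : ⁅⁅B, C⁆, A⁆ = ⊥) :
    ⁅⁅C, A⁆, B⁆ = ⊥ :=
  Subgroup.commutator_commutator_eq_bot_of_rotate h1 h2

/-- A perfect subgroup `K` with `[M,K,K] = 1` centralizes `M`. -/
theorem commutator_eq_bot_of_perfect {K M : Subgroup G} (hK : ⁅K, K⁆ = K) (h : ⁅⁅M, K⁆, K⁆ = ⊥) :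
    ⁅M, K⁆ = ⊥ := by
  have h' : ⁅⁅K, M⁆, K⁆ = ⊥ := by rw [Subgroup.commutator_comm K M]; exact h
  have := three_subgroups h' h
  rwa [hK, Subgroup.commutator_comm] at this

/-- A perfect subgroup `K` with `[[M,K],K,K] = 1` centralizes `M`. -/
theorem commutator_eq_bot_of_perfect₂ {K M : Subgroup G} (hK : ⁅K, K⁆ = K)
    (h : ⁅⁅⁅M, K⁆, K⁆, K⁆ = ⊥) : ⁅M, K⁆ = ⊥ :=
  commutator_eq_bot_of_perfect hK (commutator_eq_bot_of_perfect hK h)

theorem commutator_subgroupOf_map {H A B : Subgroup G} (hA : A ≤ H) (hB : B ≤ H) :
    (⁅A.subgroupOf H, B.subgroupOf H⁆).map H.subtype = ⁅A, B⁆ := by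
  rw [Subgroup.map_commutator, Subgroup.map_subgroupOf_eq_of_le hA,
    Subgroup.map_subgroupOf_eq_of_le hB]

theorem commutator_subgroupOf_eq_bot_iff {H A B : Subgroup G} (hA : A ≤ H) (hB : B ≤ H) :
    ⁅A.subgroupOf H, B.subgroupOf H⁆ = ⊥ ↔ ⁅A, B⁆ = ⊥ := by
  rw [← commutator_subgroupOf_map hA hB, Subgroup.map_eq_bot_iff_of_injective _ H.subtype_injective]

end Commutators

namespace Quasisimple

variable {K : Type*} [Group K]

theorem nontrivial (h : IsQuasisimple K) : Nontrivial K := by
  have := h.2
  exact (QuotientGroup.mk'_surjective (Subgroup.center K)).nontrivial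

theorem center_ne_top (h : IsQuasisimple K) : Subgroup.center K ≠ ⊤ := by
  intro hc
  have := h.2
  have : Subsingleton (K ⧸ Subgroup.center K) := QuotientGroup.subsingleton_iff.mpr hc
  exact not_subsingleton (K ⧸ Subgroup.center K) this

theorem not_isMulCommutative (h : IsQuasisimple K) : ¬ IsMulCommutative K := fun hc => by
  refine center_ne_top h (eq_top_iff.mpr fun x _ => Subgroup.mem_center_iff.mpr fun y => ?_)
  exact hc.is_comm.comm y x

theorem not_isSolvable (h : IsQuasisimple K) : ¬ Group.IsSolvable K := by
  have := h.1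
  have := nontrivial h
  exact Group.IsPerfect.not_isSolvable K

/-- A normal subgroup of a quasisimple group is central or is the whole group. -/
theorem normal_le_center_or_eq_top (h : IsQuasisimple K) {N : Subgroup K} (hN : N.Normal) :
    N ≤ Subgroup.center K ∨ N = ⊤ := by
  have := h.1
  have := h.2
  rcases (hN.map (QuotientGroup.mk' (Subgroup.center K))
    (QuotientGroup.mk'_surjective _)).eq_bot_or_eq_top with hb | ht
  · exact Or.inl (by simpa [Subgroup.map_eq_bot_iff] using hb)
  · right
    have htop : N ⊔ Subgroup.center K = ⊤ := by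
      have := congrArg (Subgroup.comap (QuotientGroup.mk' (Subgroup.center K))) ht
      simpa [Subgroup.comap_map_eq] using this
    have hle : _root_.commutator K ≤ N := by
      exact Subgroup.Normal.commutator_le_of_self_sup_commutative_eq_top htop inferInstance
    rw [Group.IsPerfect.commutator_eq_top] at hle
    exact eq_top_iff.mpr hle

/-- A subnormal subgroup of a quasisimple group is central or is the whole group. -/
theorem subnormal_le_center_or_eq_top (h : IsQuasisimple K) {N : Subgroup K} (hN : N.IsSubnormal) :
    N ≤ Subgroup.center K ∨ N = ⊤ := by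
  rcases hN.lt_normal with rfl | ⟨M, hM, hle, hlt⟩
  · exact Or.inr rfl
  · exact Or.inl (hle.trans ((normal_le_center_or_eq_top h hM).resolve_right hlt.ne))

/-- A nontrivial image of a quasisimple group is quasisimple. -/
theorem of_surjective {L : Type*} [Group L] [Nontrivial L] (h : IsQuasisimple K) {f : K →* L}
    (hf : Function.Surjective f) : IsQuasisimple L := by
  have := h.1
  have := h.2
  have hL : Group.IsPerfect L := Group.IsPerfect.ofSurjective hf
  refine ⟨hL, ?_⟩
  have hle : Subgroup.center K ≤ (Subgroup.center L).comap f := by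
    intro z hz
    refine Subgroup.mem_comap.mpr (Subgroup.mem_center_iff.mpr fun y => ?_)
    obtain ⟨x, rfl⟩ := hf y
    rw [← map_mul, ← map_mul, Subgroup.mem_center_iff.mp hz x]
  have hsurj : Function.Surjective (QuotientGroup.map (Subgroup.center K) (Subgroup.center L) f hle) := by
    intro y
    obtain ⟨y, rfl⟩ := QuotientGroup.mk'_surjective _ y
    obtain ⟨x, rfl⟩ := hf y
    exact ⟨x, rfl⟩
  have : Nontrivial (L ⧸ Subgroup.center L) := by
    by_contra hn
    rw [not_nontrivial_iff_subsingleton, QuotientGroup.subsingleton_iff] at hn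
    have hb := (_root_.commutator_eq_bot_iff_center_eq_top _).mpr hn
    rw [Group.IsPerfect.commutator_eq_top] at hb
    exact top_ne_bot hb
  exact IsSimpleGroup.isSimpleGroup_of_surjective _ hsurj

theorem of_mulEquiv {L : Type*} [Group L] (h : IsQuasisimple K) (e : K ≃* L) : IsQuasisimple L := by
  have := nontrivial h
  have : Nontrivial L := e.symm.toEquiv.nontrivial
  exact of_surjective (f := e.toMonoidHom) h e.surjective

theorem congr {L : Type*} [Group L] (e : K ≃* L) : IsQuasisimple K ↔ IsQuasisimple L :=
  ⟨fun h => of_mulEquiv h e, fun h => of_mulEquiv h e.symm⟩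

/-- A nonabelian simple group is quasisimple. -/
theorem of_isSimpleGroup [IsSimpleGroup K] (hK : ¬ IsMulCommutative K) : IsQuasisimple K := by
  have hz : Subgroup.center K = ⊥ := by
    refine (Subgroup.Normal.eq_bot_or_eq_top (inferInstance : (Subgroup.center K).Normal)).resolve_right
      fun ht => hK ⟨⟨fun x y => ?_⟩⟩
    exact Subgroup.mem_center_iff.mp (ht ▸ Subgroup.mem_top y) x
  have hp : Group.IsPerfect K := by
    rw [Group.isPerfect_def]
    exact (Subgroup.Normal.eq_bot_or_eq_top (inferInstance : (_root_.commutator K).Normal)).resolve_left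
      fun hb => hK ((_root_.commutator_eq_bot_iff _).mp hb)
  exact ⟨hp, ((QuotientGroup.quotientMulEquivOfEq hz).trans QuotientGroup.quotientBot).isSimpleGroup⟩

/-- The quotient of a quasisimple group by a proper normal subgroup is quasisimple. -/
theorem quotient (h : IsQuasisimple K) {N : Subgroup K} [N.Normal] (hN : N ≠ ⊤) :
    IsQuasisimple (K ⧸ N) := by
  have : Nontrivial (K ⧸ N) := by
    by_contra hn
    rw [not_nontrivial_iff_subsingleton, QuotientGroup.subsingleton_iff] at hn
    exact hN hn
  exact of_surjective h (QuotientGroup.mk'_surjective N)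

end Quasisimple

namespace Component

variable {G : Type*} [Group G] {K K' : Subgroup G}

theorem commutator_self (hK : IsComponent K) : ⁅K, K⁆ = K := Subgroup.isPerfect_iff.mp hK.2.1

theorem ne_bot (hK : IsComponent K) : K ≠ ⊥ := by
  have := Quasisimple.nontrivial hK.2
  exact (Subgroup.nontrivial_iff_ne_bot K).mp this

theorem commutator_ne_bot (hK : IsComponent K) : ⁅K, K⁆ ≠ ⊥ := by
  rw [commutator_self hK]; exact ne_bot hK

theorem not_isMulCommutative (hK : IsComponent K) : ¬ IsMulCommutative ↥K :=
  Quasisimple.not_isMulCommutative hK.2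

theorem not_isSolvable (hK : IsComponent K) : ¬ Group.IsSolvable ↥K :=
  Quasisimple.not_isSolvable hK.2

theorem not_le_centralizer_self (hK : IsComponent K) : ¬ K ≤ Subgroup.centralizer (K : Set G) :=
  fun h => not_isMulCommutative hK (Subgroup.le_centralizer_iff_isMulCommutative.mp h)

/-- A component is not contained in a solvable subgroup. -/
theorem not_le_of_isSolvable (hK : IsComponent K) {N : Subgroup G} [Group.IsSolvable N] : ¬ K ≤ N :=
  fun h => not_isSolvable hK (Group.isSolvable_of_isSolvable_injective (f := Subgroup.inclusion h)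
    (Subgroup.inclusion_injective h))

theorem subgroupOf (hK : IsComponent K) {H : Subgroup G} (hle : K ≤ H) :
    IsComponent (K.subgroupOf H) :=
  ⟨hK.1.subgroupOf, Quasisimple.of_mulEquiv hK.2 (Subgroup.subgroupOfEquivOfLe hle).symm⟩

theorem map_subtype {H : Subgroup G} (hH : H.IsSubnormal) {L : Subgroup H} (hL : IsComponent L) :
    IsComponent (L.map H.subtype) :=
  ⟨hL.1.trans' hH, Quasisimple.of_mulEquiv hL.2 (L.equivMapOfInjective _ H.subtype_injective)⟩

/-- For a subnormal `H`, the components of `H` are the components of `G` contained in `H`. -/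
theorem subgroupOf_iff {H : Subgroup G} (hH : H.IsSubnormal) (hle : K ≤ H) :
    IsComponent (K.subgroupOf H) ↔ IsComponent K := by
  refine ⟨fun h => ?_, fun h => subgroupOf h hle⟩
  have := map_subtype hH h
  rwa [Subgroup.map_subgroupOf_eq_of_le hle] at this

theorem map_equiv {G' : Type*} [Group G'] (e : G ≃* G') (hK : IsComponent K) :
    IsComponent (K.map e.toMonoidHom) :=
  ⟨hK.1.map (f := e.toMonoidHom) e.surjective,
    Quasisimple.of_mulEquiv hK.2 (K.equivMapOfInjective _ e.injective)⟩

theorem conj (hK : IsComponent K) (g : G) : IsComponent (K.map (MulAut.conj g).toMonoidHom) :=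
  map_equiv (MulAut.conj g) hK

theorem isPerfect_eq_of_subnormal_le (hK : IsComponent K) {H : Subgroup G} (hH : H.IsSubnormal)
    (hle : H ≤ K) : ⁅H, K⁆ = ⊥ ∨ H = K := by
  rcases Quasisimple.subnormal_le_center_or_eq_top hK.2 (hH.subgroupOf (K := K)) with hc | ht
  · left
    rw [Subgroup.commutator_eq_bot_iff_le_centralizer]
    intro x hx
    refine Subgroup.mem_centralizer_iff.mpr fun y hy => ?_
    have := Subgroup.mem_center_iff.mp (hc (show (⟨x, hle hx⟩ : K) ∈ H.subgroupOf K from hx)) ⟨y, hy⟩
    exact congrArg Subtype.val this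
  · exact Or.inr (le_antisymm hle (Subgroup.subgroupOf_eq_top.mp ht))

theorem le_or_commutator_eq_bot_aux :
    ∀ (n : ℕ) {G : Type u} [Group G] [Finite G] (K N : Subgroup G), Nat.card G ≤ n →
      IsComponent K → N.IsSubnormal → K ≤ N ∨ ⁅N, K⁆ = ⊥ := by
  intro n
  induction n with
  | zero =>
    intro G _ _ K N hn _ _
    exact absurd hn (by have := Nat.card_pos (α := G); omega)
  | succ n ih =>
    intro G _ _ K N hn hK hN
    rcases hN.lt_normal with rfl | ⟨M, hM, hNM, hMlt⟩
    · exact Or.inl le_top
    have hcard : ∀ H : Subgroup G, H < ⊤ → Nat.card H ≤ n := fun H hH => by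
      have h1 : Nat.card H < Nat.card G := by
        refine lt_of_le_of_ne (Subgroup.card_le_card_group H) fun he => hH.ne ?_
        exact Subgroup.eq_top_of_card_eq H he
      omega
    by_cases hKM : K ≤ M
    · rcases ih (K.subgroupOf M) (N.subgroupOf M) (hcard M hMlt) (subgroupOf hK hKM) hN.subgroupOf
        with h | h
      · exact Or.inl fun x hx => h (show (⟨x, hKM hx⟩ : M) ∈ K.subgroupOf M from hx)
      · exact Or.inr ((commutator_subgroupOf_eq_bot_iff hNM hKM).mp h)
    · right
      rcases hK.1.lt_normal with hKtop | ⟨L, hL, hKL, hLlt⟩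
      · rcases isPerfect_eq_of_subnormal_le hK hN (hKtop ▸ le_top) with h | h
        · exact h
        · exact absurd (h ▸ hNM) hKM
      · have hML : ⁅M ⊓ L, K⁆ = ⊥ := by
          rcases ih (K.subgroupOf L) ((M ⊓ L).subgroupOf L) (hcard L hLlt) (subgroupOf hK hKL)
            (Subgroup.Normal.isSubnormal inferInstance) with h | h
          · exact absurd (fun x hx => (h (show (⟨x, hKL hx⟩ : L) ∈ K.subgroupOf L from hx)).1) hKM
          · exact (commutator_subgroupOf_eq_bot_iff inf_le_right hKL).mp h
        have hMK : ⁅⁅M, K⁆, K⁆ = ⊥ := by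
          refine le_bot_iff.mp ?_
          rw [← hML]
          refine Subgroup.commutator_mono ?_ le_rfl
          refine le_inf (Subgroup.commutator_le_left _ _) ?_
          exact (Subgroup.commutator_mono le_rfl hKL).trans (Subgroup.commutator_le_right _ _)
        exact le_bot_iff.mp
          (commutator_eq_bot_of_perfect (commutator_self hK) hMK ▸ Subgroup.commutator_mono hNM le_rfl)

variable [Finite G]

/-- A component is contained in, or centralizes, each subnormal subgroup. -/
theorem le_or_commutator_eq_bot (hK : IsComponent K) {N : Subgroup G} (hN : N.IsSubnormal) :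
    K ≤ N ∨ ⁅N, K⁆ = ⊥ :=
  le_or_commutator_eq_bot_aux (Nat.card G) K N le_rfl hK hN

/-- Distinct components commute. -/
theorem eq_or_commutator_eq_bot (hK : IsComponent K) (hK' : IsComponent K') :
    K = K' ∨ ⁅K, K'⁆ = ⊥ := by
  rcases le_or_commutator_eq_bot hK hK'.1 with h | h
  · rcases isPerfect_eq_of_subnormal_le hK' hK.1 h with h' | h'
    · exact Or.inr h'
    · exact Or.inl h'
  · exact Or.inr (by rw [Subgroup.commutator_comm]; exact h)

theorem le_centralizer_of_ne (hK : IsComponent K) (hK' : IsComponent K') (hne : K ≠ K') :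
    K ≤ Subgroup.centralizer (K' : Set G) :=
  Subgroup.commutator_eq_bot_iff_le_centralizer.mp ((eq_or_commutator_eq_bot hK hK').resolve_left hne)

/-- A component centralizes every solvable subnormal subgroup. -/
theorem commutator_eq_bot_of_isSolvable (hK : IsComponent K) {N : Subgroup G} (hN : N.IsSubnormal)
    [Group.IsSolvable N] : ⁅N, K⁆ = ⊥ :=
  (le_or_commutator_eq_bot hK hN).resolve_left (not_le_of_isSolvable hK)

/-- A component centralizes the Fitting subgroup. -/
theorem fittingSubgroup_le_centralizer (hK : IsComponent K) :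
    fittingSubgroup G ≤ Subgroup.centralizer (K : Set G) := by
  refine sSup_le ?_
  rintro N ⟨hN, hnil⟩
  exact Subgroup.commutator_eq_bot_iff_le_centralizer.mp
    (commutator_eq_bot_of_isSolvable hK hN.isSubnormal)

end Component

namespace Layer

variable {G : Type*} [Group G]

theorem component_le_layer {K : Subgroup G} (hK : IsComponent K) : K ≤ layer G := le_sSup hK

theorem map_layer_le {G' : Type*} [Group G'] (e : G ≃* G') :
    (layer G).map e.toMonoidHom ≤ layer G' := by
  rw [Subgroup.map_le_iff_le_comap]
  exact sSup_le fun K hK => Subgroup.map_le_iff_le_comap.mp (le_sSup (Component.map_equiv e hK))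

theorem map_layer {G' : Type*} [Group G'] (e : G ≃* G') :
    (layer G).map e.toMonoidHom = layer G' :=
  le_antisymm (map_layer_le e) fun x hx =>
    ⟨e.symm x, map_layer_le e.symm (Subgroup.mem_map_of_mem _ hx), e.apply_symm_apply x⟩

instance layer_characteristic : (layer G).Characteristic :=
  Subgroup.characteristic_iff_map_eq.mpr fun e => map_layer e

instance layer_normal : (layer G).Normal := inferInstance

theorem commutator_layer_self : ⁅layer G, layer G⁆ = layer G := by
  refine le_antisymm (Subgroup.commutator_le_self _) (sSup_le fun K hK => ?_)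
  rw [← Component.commutator_self hK]
  exact Subgroup.commutator_mono (component_le_layer hK) (component_le_layer hK)

theorem layer_perfect : Group.IsPerfect ↥(layer G) := Subgroup.isPerfect_iff.mpr commutator_layer_self

variable [Finite G]

/-- The layer centralizes the Fitting subgroup. -/
theorem fitting_le_centralizer_layer :
    fittingSubgroup G ≤ Subgroup.centralizer (layer G : Set G) := by
  rw [Subgroup.le_centralizer_iff]
  exact sSup_le fun K hK => Subgroup.le_centralizer_iff.mp (Component.fittingSubgroup_le_centralizer hK)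

theorem commutator_layer_fitting : ⁅layer G, fittingSubgroup G⁆ = ⊥ :=
  Subgroup.commutator_eq_bot_iff_le_centralizer.mpr
    (Subgroup.le_centralizer_iff.mp fitting_le_centralizer_layer)

/-- Components are normal in the layer. -/
theorem layer_le_normalizer {K : Subgroup G} (hK : IsComponent K) :
    layer G ≤ Subgroup.normalizer (K : Set G) := by
  refine sSup_le fun L hL => ?_
  by_cases h : L = K
  · exact h ▸ Subgroup.le_normalizer
  · exact (Component.le_centralizer_of_ne hL hK h).trans (Subgroup.centralizer_le_normalizer _)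

omit [Finite G] in
theorem layer_ne_bot_iff : layer G ≠ ⊥ ↔ ∃ K : Subgroup G, IsComponent K := by
  constructor
  · intro h
    by_contra hc
    push Not at hc
    exact h (sSup_eq_bot.mpr fun K hK => absurd hK (hc K))
  · rintro ⟨K, hK⟩ hb
    exact Component.ne_bot hK (le_bot_iff.mp (hb ▸ component_le_layer hK))

end Layer

end Cfsg.Agent.Lib.Components
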